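import Groth.Agent.P1Norm.Alg
import Groth.Agent.NormFieldX.Props
import Groth.Prelude.Def_Pi1

/-! An unramified normalization of a normal integral scheme is finite étale. -/

universe u

open CategoryTheory AlgebraicGeometry

set_option linter.style.haveILetI false

namespace Groth.Agent.P1Norm

theorem isIntegrallyClosed_sections {X : Scheme.{u}} [IsIntegral X] (hX : Pi1.IsNormalScheme X)
    {U : X.Opens} (hU : IsAffineOpen U) [Nonempty U] : IsIntegrallyClosed Γ(X, U) :=
  IsIntegrallyClosed.of_localization_maximal fun P _ hP => by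
    have hy : hU.fromSpec ⟨P, hP.isPrime⟩ ∈ U := hU.range_fromSpec.le ⟨_, rfl⟩
    letI : Algebra Γ(X, U) (X.presheaf.stalk (hU.fromSpec ⟨P, hP.isPrime⟩)) :=
      X.presheaf.algebra_section_stalk ⟨hU.fromSpec ⟨P, hP.isPrime⟩, hy⟩
    haveI : IsLocalization.AtPrime (X.presheaf.stalk (hU.fromSpec ⟨P, hP.isPrime⟩)) P :=
      hU.isLocalization_stalk' ⟨P, hP.isPrime⟩ hy
    haveI := (hX (hU.fromSpec ⟨P, hP.isPrime⟩)).2
    exact IsIntegrallyClosed.of_equiv (IsLocalization.algEquiv P.primeCompl
      (X.presheaf.stalk (hU.fromSpec ⟨P, hP.isPrime⟩)) (Localization.AtPrime P)).toRingEquiv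

theorem normalization_etale_finite {X : Scheme.{u}} [IsIntegral X] (hX : Pi1.IsNormalScheme X)
    (L : Type u) [Field L] (φ : X.functionField →+* L)
    [QuasiCompact (NormFieldX.pnt X L φ)] [QuasiSeparated (NormFieldX.pnt X L φ)]
    [FormallyUnramified (NormFieldX.ν X L φ)] [LocallyOfFiniteType (NormFieldX.ν X L φ)] :
    Etale (NormFieldX.ν X L φ) ∧ IsFinite (NormFieldX.ν X L φ) := by
  haveI : IsIntegralHom (NormFieldX.ν X L φ) := inferInstanceAs (IsIntegralHom (NormFieldX.pnt X L φ).fromNormalization)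
  haveI : IsFinite (NormFieldX.ν X L φ) :=
    (IsFinite.iff_isIntegralHom_and_locallyOfFiniteType _).2 ⟨inferInstance, inferInstance⟩
  refine ⟨?_, inferInstance⟩
  rw [HasRingHomProperty.iff_exists_appLE (P := @Etale)
    (fun R S T _ _ _ _ r _ g hg => RingHom.Etale.stableUnderComposition _ _
      (RingHom.etale_algebraMap.2 (Algebra.Etale.of_isLocalizationAway r)) hg)]
  intro y
  obtain ⟨U, hU, hyU, -⟩ := exists_isAffineOpen_mem_and_subset (x := NormFieldX.ν X L φ y) (U := ⊤) trivial
  haveI : Nonempty U := ⟨⟨_, hyU⟩⟩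
  have hη := NormFieldX.genericPoint_mem_of_nonempty hyU
  have hV : IsAffineOpen (NormFieldX.ν X L φ ⁻¹ᵁ U) := hU.preimage _
  refine ⟨⟨U, hU⟩, ⟨_, hV⟩, hyU, le_rfl, ?_⟩
  have hFU := FormallyUnramified.formallyUnramified_appLE (NormFieldX.ν X L φ) hU hV le_rfl
  have hFT := (NormFieldX.ν X L φ).finiteType_appLE hU hV le_rfl
  haveI : Nonempty (NormFieldX.ν X L φ ⁻¹ᵁ U : _) := ⟨⟨y, hyU⟩⟩
  haveI := isIntegrallyClosed_sections hX hU
  letI : Algebra Γ(X, U) L := (NormFieldX.baseHom φ hη).toAlgebra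
  let e := NormFieldX.secEquiv (K := L) (φ := φ) hU hη
  have h2 : ((NormFieldX.ν X L φ).appLE U _ le_rfl).hom =
      e.symm.toRingHom.comp (algebraMap Γ(X, U) (integralClosure Γ(X, U) L)) := by
    rw [← Scheme.Hom.app_eq_appLE]
    exact RingHom.ext fun a => by
      show _ = e.symm _
      rw [RingEquiv.eq_symm_apply]
      exact Subtype.ext (NormFieldX.evalK_app hη a)
  algebraize [((NormFieldX.ν X L φ).appLE U _ le_rfl).hom]
  haveI : IsDomain Γ(NormFieldX.norm X L φ, NormFieldX.ν X L φ ⁻¹ᵁ U) := e.toMulEquiv.isDomain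
  apply etale_of_formallyUnramified
  show Function.Injective ((NormFieldX.ν X L φ).appLE U _ le_rfl).hom
  rw [h2]
  refine e.symm.injective.comp fun a b h => ?_
  have h' : φ ((X.presheaf.germ U (genericPoint X) hη).hom a) = φ ((X.presheaf.germ U (genericPoint X) hη).hom b) :=
    congrArg Subtype.val h
  letI : Algebra Γ(X, U) X.functionField := (X.presheaf.germ U (genericPoint X) hη).hom.toAlgebra
  haveI : IsFractionRing Γ(X, U) X.functionField := functionField_isFractionRing_of_isAffineOpen X U hU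
  exact IsFractionRing.injective Γ(X, U) X.functionField (φ.injective h')

end Groth.Agent.P1Norm
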