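import Groth.Agent.UnramMisc.FlatUnram
import Groth.Agent.EtStalk.Normal
import Mathlib.RingTheory.QuasiFinite.Basic
import Mathlib.RingTheory.Flat.Localization

/-! An unramified domain over a normal domain, with injective structure map, is étale. -/

universe u

set_option linter.style.haveILetI false

namespace Groth.Agent.P1Norm

variable {A B : Type u} [CommRing A] [IsDomain A] [IsIntegrallyClosed A] [CommRing B] [IsDomain B]
  [Algebra A B] [Algebra.FiniteType A B] [Algebra.FormallyUnramified A B]

theorem flat_atPrime (hinj : Function.Injective (algebraMap A B)) (Q : Ideal B) [Q.IsPrime] :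
    Module.Flat A (Localization.AtPrime Q) := by
  have : Algebra.Unramified A B := ⟨inferInstance, inferInstance⟩
  have : Algebra.IsUnramifiedAt A Q := inferInstance
  obtain ⟨f, hfQ, P, φ, hφ⟩ := Algebra.IsUnramifiedAt.exists_hasStandardEtaleSurjectionOn (R := A) Q
  let T := Localization.Away f
  let BQ := Localization.AtPrime Q
  let j : T →ₐ[A] BQ := IsLocalization.liftAlgHom (M := Submonoid.powers f)
    (f := IsScalarTower.toAlgHom A B BQ) fun y => by
      obtain ⟨n, hn⟩ := y.2
      show IsUnit (algebraMap B BQ y)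
      rw [← hn, map_pow]
      exact (IsLocalization.map_units BQ (⟨f, hfQ⟩ : Q.primeCompl)).pow n
  let g : P.Ring →ₐ[A] BQ := j.comp φ
  let q : Ideal P.Ring := (IsLocalRing.maximalIdeal BQ).comap g
  haveI : q.IsPrime := inferInstanceAs ((IsLocalRing.maximalIdeal BQ).comap g).IsPrime
  let D := Localization.AtPrime q
  haveI := WLocalLib.weaklyEtale_localization q.primeCompl D
  haveI : Algebra.WeaklyEtale A D := Algebra.WeaklyEtale.trans A P.Ring D
  haveI := (EtStalk.normal_of_weaklyEtale_local A D).1
  let π : D →ₐ[A] BQ := IsLocalization.liftAlgHom (M := q.primeCompl) (f := g) fun y =>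
    IsLocalRing.notMem_maximalIdeal.1 y.2
  have hπ : ∀ c, π (algebraMap P.Ring D c) = g c := fun c => IsLocalization.lift_eq _ c
  have hj : ∀ b, j (algebraMap B T b) = algebraMap B BQ b := fun b => IsLocalization.lift_eq _ b
  have hBQ : Function.Injective (algebraMap B BQ) :=
    IsLocalization.injective BQ Q.primeCompl_le_nonZeroDivisors
  have hsurj : Function.Surjective π := fun z => by
    obtain ⟨b, s, rfl⟩ := IsLocalization.exists_mk'_eq Q.primeCompl z
    obtain ⟨cb, hcb⟩ := hφ (algebraMap B T b)
    obtain ⟨cs, hcs⟩ := hφ (algebraMap B T s)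
    have hb : g cb = algebraMap B BQ b := by show j (φ cb) = _; rw [hcb, hj]
    have hs : g cs = algebraMap B BQ s := by show j (φ cs) = _; rw [hcs, hj]
    have hcsq : cs ∈ q.primeCompl := by
      show g cs ∉ IsLocalRing.maximalIdeal BQ
      rw [hs, IsLocalRing.notMem_maximalIdeal]
      exact IsLocalization.map_units BQ s
    refine ⟨IsLocalization.mk' D cb ⟨cs, hcsq⟩, ?_⟩
    rw [IsLocalization.eq_mk'_iff_mul_eq, ← hs, ← hπ cs, ← map_mul, IsLocalization.mk'_spec, hπ, hb]
  have hker : Function.Injective π := by
    rw [RingHom.injective_iff_ker_eq_bot]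
    haveI : (RingHom.ker π).IsPrime := RingHom.ker_isPrime π
    let P0 : Ideal P.Ring := (RingHom.ker π).comap (algebraMap P.Ring D)
    let Q0 : Ideal P.Ring := (⊥ : Ideal D).comap (algebraMap P.Ring D)
    haveI : (⊥ : Ideal D).IsPrime := Ideal.isPrime_bot
    haveI : P0.IsPrime := inferInstanceAs ((RingHom.ker π).comap (algebraMap P.Ring D)).IsPrime
    haveI : Q0.IsPrime := inferInstanceAs ((⊥ : Ideal D).comap (algebraMap P.Ring D)).IsPrime
    have hbot : P0.under A = ⊥ := (Submodule.eq_bot_iff _).2 fun a ha => by
      have h0 : π (algebraMap P.Ring D (algebraMap A P.Ring a)) = 0 := ha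
      rw [hπ, g.commutes, IsScalarTower.algebraMap_apply A B BQ,
        map_eq_zero_iff _ hBQ, map_eq_zero_iff _ hinj] at h0
      exact h0
    have hle : Q0 ≤ P0 := Ideal.comap_mono bot_le
    have heq : Q0 = P0 := Algebra.QuasiFinite.eq_of_le_of_under_eq (R := A) _ _ hle
      (hbot.symm ▸ le_antisymm ((Ideal.comap_mono hle).trans_eq hbot) bot_le)
    calc RingHom.ker π = P0.map (algebraMap P.Ring D) := (IsLocalization.map_comap q.primeCompl D _).symm
      _ = ⊥ := by rw [← heq]; exact IsLocalization.map_comap q.primeCompl D ⊥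
  haveI : Module.Flat A D := Algebra.WeaklyEtale.flat
  exact Module.Flat.of_linearEquiv (AlgEquiv.ofBijective π ⟨hker, hsurj⟩).toLinearEquiv.symm

theorem etale_of_formallyUnramified (hinj : Function.Injective (algebraMap A B)) :
    Algebra.Etale A B := by
  haveI : Module.Flat A B := Module.flat_of_isLocalized_maximal B B (fun P => Localization.AtPrime P)
    (fun P => Algebra.linearMap B (Localization.AtPrime P)) fun P _ => flat_atPrime hinj P
  haveI := UnramMisc.finitePresentation_of_flat_formallyUnramified (R := A) (S := B) (by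
    rw [IsDomain.minimalPrimes_eq_singleton_bot]; exact Set.finite_singleton _)
  exact Algebra.Etale.of_formallyUnramified_of_flat

end Groth.Agent.P1Norm
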