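import Groth.Agent.P1Norm.Sch
import Groth.Agent.H23.CoverPush
import Groth.Agent.Pi1X.NormalEtale
import Groth.Agent.Pi1X.FEtBasic
import Mathlib.RingTheory.DedekindDomain.IntegralClosure

/-! The finite étale covers of the generic point coming from a normal integral scheme. -/

universe u

open CategoryTheory CategoryTheory.Limits AlgebraicGeometry TensorProduct

set_option linter.style.haveILetI false

namespace Groth.Agent.P1Norm

theorem exists_isPullback_generic {X W : Scheme.{u}} [IsIntegral X] (f : W ⟶ X) [IsAffineHom f]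
    {U : X.Opens} (hU : IsAffineOpen U) (hη : genericPoint X ∈ U) :
    letI := (f.app U).hom.toAlgebra
    letI := (X.presheaf.germ U (genericPoint X) hη).hom.toAlgebra
    ∃ p : Spec (CommRingCat.of (X.functionField ⊗[Γ(X, U)] Γ(W, f ⁻¹ᵁ U))) ⟶ W,
      IsPullback p (Spec.map (CommRingCat.ofHom
        (algebraMap X.functionField (X.functionField ⊗[Γ(X, U)] Γ(W, f ⁻¹ᵁ U)))))
        f (X.fromSpecStalk (genericPoint X)) := by
  letI := (f.app U).hom.toAlgebra
  letI := (X.presheaf.germ U (genericPoint X) hη).hom.toAlgebra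
  let A := Γ(X, U)
  let C := Γ(W, f ⁻¹ᵁ U)
  let F := X.functionField
  have h1 := CommRingCat.isPushout_tensorProduct A F C
  have h2 := isPullback_SpecMap_of_isPushout _ _ _ _ h1
  have h3 : hU.fromSpecStalk hη = X.fromSpecStalk (genericPoint X) := hU.fromSpecStalk_eq_fromSpecStalk hη
  refine ⟨Spec.map (CommRingCat.ofHom (Algebra.TensorProduct.includeRight : C →ₐ[A] F ⊗[A] C).toRingHom) ≫
    (hU.preimage f).fromSpec, ?_⟩
  rw [← h3]
  exact h2.flip.paste_horiz (H23.CoverPush.isPullback_fromSpec f hU).flip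

/-- Sections of a finite étale cover whose generic fibre is a field are its integral closure. -/
theorem app_etale_finite_of_restrict {X : Scheme.{u}} [IsIntegral X] (hX : Pi1.IsNormalScheme X)
    (L : Type u) [Field L] (φ : X.functionField →+* L)
    [QuasiCompact (NormFieldX.pnt X L φ)] [QuasiSeparated (NormFieldX.pnt X L φ)]
    {W : Scheme.{u}} (f : W ⟶ X) [IsFinite f] [Etale f]
    (e : pullback f (X.fromSpecStalk (genericPoint X)) ≅ Spec (CommRingCat.of L))
    (he : e.hom ≫ Spec.map (CommRingCat.ofHom φ) = pullback.snd f (X.fromSpecStalk (genericPoint X)))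
    {U : X.Opens} (hU : IsAffineOpen U) (hη : genericPoint X ∈ U) :
    ((NormFieldX.ν X L φ).app U).hom.Etale ∧ ((NormFieldX.ν X L φ).app U).hom.Finite := by
  haveI : Nonempty U := ⟨⟨_, hη⟩⟩
  obtain ⟨p, hp⟩ := exists_isPullback_generic f hU hη
  letI := (f.app U).hom.toAlgebra
  letI := (X.presheaf.germ U (genericPoint X) hη).hom.toAlgebra
  let A := Γ(X, U)
  let C := Γ(W, f ⁻¹ᵁ U)
  let F := X.functionField
  letI : Algebra A L := (NormFieldX.baseHom φ hη).toAlgebra
  haveI : IsFractionRing A F := functionField_isFractionRing_of_isAffineOpen X U hU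
  haveI := isIntegrallyClosed_sections hX hU
  have hfin : (f.app U).hom.Finite := IsFinite.finite_app f U hU
  have het : (f.app U).hom.Etale := by
    rw [Scheme.Hom.app_eq_appLE]
    exact HasRingHomProperty.appLE (P := @Etale) f inferInstance ⟨U, hU⟩ ⟨_, hU.preimage f⟩ le_rfl
  haveI : Module.Finite A C := hfin
  haveI : Algebra.Etale A C := het
  let j : Spec (CommRingCat.of (F ⊗[A] C)) ≅ Spec (CommRingCat.of L) := hp.isoPullback ≪≫ e
  let θ : CommRingCat.of L ≅ CommRingCat.of (F ⊗[A] C) :=
    (Scheme.Spec.preimageIso j).unop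
  have hθ : Spec.map θ.hom = j.hom := by
    exact Scheme.Spec.map_preimage j.hom
  have hcomm : CommRingCat.ofHom φ ≫ θ.hom = CommRingCat.ofHom (algebraMap F (F ⊗[A] C)) :=
    Spec.map_injective (by
      rw [Spec.map_comp, hθ]
      show (hp.isoPullback.hom ≫ e.hom) ≫ _ = _
      rw [Category.assoc, he, hp.isoPullback_hom_snd])
  let ε : L ≃+* F ⊗[A] C := θ.commRingCatIsoToRingEquiv
  have hεA : ∀ a : A, ε (algebraMap A L a) = algebraMap A (F ⊗[A] C) a := fun a => by
    rw [IsScalarTower.algebraMap_apply A F (F ⊗[A] C)]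
    exact ConcreteCategory.congr_hom hcomm (algebraMap A F a)
  let εA : L ≃ₐ[A] F ⊗[A] C := AlgEquiv.ofRingEquiv (f := ε) hεA
  let ι : C →ₐ[A] F ⊗[A] C := Algebra.TensorProduct.includeRight
  let ψ : C →ₐ[A] L := εA.symm.toAlgHom.comp ι
  have hψinj : Function.Injective ψ := εA.symm.injective.comp
    (Algebra.TensorProduct.includeRight_injective (IsFractionRing.injective A F))
  have hψr : ψ.range = integralClosure A L := by
    refine le_antisymm ?_ fun y hy => ?_
    · rintro _ ⟨c, rfl⟩
      exact (Algebra.IsIntegral.isIntegral (R := A) c).map ψ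
    · obtain ⟨c, hc⟩ := Pi1X.mem_range_of_isIntegral (K := F) (y := εA y) ((show IsIntegral A y from hy).map εA)
      exact ⟨c, εA.symm_apply_eq.2 hc⟩
  let E : C ≃ₐ[A] integralClosure A L := (AlgEquiv.ofInjective ψ hψinj).trans (Subalgebra.equivOfEq _ _ hψr)
  haveI : Algebra.Etale A (integralClosure A L) := Algebra.Etale.of_equiv E
  haveI : Module.Finite A (integralClosure A L) := Module.Finite.equiv E.toLinearEquiv
  let s := NormFieldX.secEquiv (K := L) (φ := φ) hU hη
  have h2 : ((NormFieldX.ν X L φ).app U).hom =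
      s.symm.toRingHom.comp (algebraMap A (integralClosure A L)) :=
    RingHom.ext fun a => by
      show _ = s.symm _
      rw [RingEquiv.eq_symm_apply]
      exact Subtype.ext (NormFieldX.evalK_app hη a)
  rw [h2]
  exact ⟨RingHom.Etale.respectsIso.1 _ s.symm (RingHom.etale_algebraMap.2 inferInstance),
    RingHom.finite_respectsIso.1 _ s.symm (RingHom.finite_algebraMap.2 inferInstance)⟩

theorem essImage_generic_iff {X : Scheme.{u}} [IsIntegral X] (hX : Pi1.IsNormalScheme X)
    (L : Type u) [Field L] (φ : X.functionField →+* L) (hφ : φ.Finite)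
    [QuasiCompact (NormFieldX.pnt X L φ)] [QuasiSeparated (NormFieldX.pnt X L φ)]
    (Y₀ : FEt.Cat (Spec X.functionField)) (e₀ : Y₀.left ≅ Spec (CommRingCat.of L))
    (he₀ : e₀.hom ≫ Spec.map (CommRingCat.ofHom φ) = Y₀.hom) :
    (FEt.restrict (X.fromSpecStalk (genericPoint X))).essImage Y₀ ↔
      (Etale (NormFieldX.ν X L φ) ∧ IsFinite (NormFieldX.ν X L φ)) := by
  constructor
  · rintro ⟨W, ⟨i⟩⟩
    let e : pullback W.hom (X.fromSpecStalk (genericPoint X)) ≅ Spec (CommRingCat.of L) :=
      (MorphismProperty.Over.forget _ _ _ ⋙ Over.forget _).mapIso i ≪≫ e₀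
    have he : e.hom ≫ Spec.map (CommRingCat.ofHom φ) =
        pullback.snd W.hom (X.fromSpecStalk (genericPoint X)) := by
      show (i.hom.left ≫ e₀.hom) ≫ _ = _
      rw [Category.assoc, he₀]
      exact Over.w i.hom.hom
    haveI : IsIntegralHom (NormFieldX.ν X L φ) :=
      inferInstanceAs (IsIntegralHom (NormFieldX.pnt X L φ).fromNormalization)
    have key : ∀ (U : X.Opens), IsAffineOpen U →
        ((NormFieldX.ν X L φ).app U).hom.Etale ∧ ((NormFieldX.ν X L φ).app U).hom.Finite := by
      intro U hU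
      rcases (U : Set X).eq_empty_or_nonempty with h0 | ⟨x, hx⟩
      · have h : U = ⊥ := TopologicalSpace.Opens.ext h0
        subst h
        haveI : Subsingleton Γ(X, (⊥ : X.Opens)) := inferInstance
        haveI : Subsingleton Γ(NormFieldX.norm X L φ, NormFieldX.ν X L φ ⁻¹ᵁ ⊥) := by
          rw [Scheme.Hom.preimage_bot]; infer_instance
        exact ⟨RingHom.Etale.of_bijective ⟨fun a b _ => Subsingleton.elim _ _, fun z => ⟨0, Subsingleton.elim _ _⟩⟩,
          RingHom.Finite.of_surjective _ fun z => ⟨0, Subsingleton.elim _ _⟩⟩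
      · exact @app_etale_finite_of_restrict X _ hX L _ φ _ _ W.left W.hom W.prop.1 W.prop.2 e he U hU (NormFieldX.genericPoint_mem_of_nonempty hx)
    haveI : IsFinite (NormFieldX.ν X L φ) := ⟨fun U hU => (key U hU).2⟩
    refine ⟨?_, inferInstance⟩
    rw [HasRingHomProperty.iff_exists_appLE (P := @Etale)
      (fun R S T _ _ _ _ r _ g hg => RingHom.Etale.stableUnderComposition _ _
        (RingHom.etale_algebraMap.2 (Algebra.Etale.of_isLocalizationAway r)) hg)]
    intro y
    obtain ⟨U, hU, hyU, -⟩ := exists_isAffineOpen_mem_and_subset (x := NormFieldX.ν X L φ y) (U := ⊤) trivial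
    refine ⟨⟨U, hU⟩, ⟨_, hU.preimage _⟩, hyU, le_rfl, ?_⟩
    rw [← Scheme.Hom.app_eq_appLE]
    exact (key U hU).1
  · rintro ⟨het, hfin⟩
    haveI := het
    haveI := hfin
    let W : FEt.Cat X := MorphismProperty.Over.mk ⊤ (NormFieldX.ν X L φ) ⟨hfin, het⟩
    obtain ⟨U, hU, hη, -⟩ := exists_isAffineOpen_mem_and_subset (x := genericPoint X) (U := ⊤) trivial
    haveI : Nonempty U := ⟨⟨_, hη⟩⟩
    obtain ⟨p, hp⟩ := exists_isPullback_generic (NormFieldX.ν X L φ) hU hη
    letI := ((NormFieldX.ν X L φ).app U).hom.toAlgebra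
    letI := (X.presheaf.germ U (genericPoint X) hη).hom.toAlgebra
    let A := Γ(X, U)
    let F := X.functionField
    let C := Γ(NormFieldX.norm X L φ, NormFieldX.ν X L φ ⁻¹ᵁ U)
    letI : Algebra F L := φ.toAlgebra
    letI : Algebra A L := (NormFieldX.baseHom φ hη).toAlgebra
    haveI : IsScalarTower A F L := IsScalarTower.of_algebraMap_eq fun _ => rfl
    haveI : IsFractionRing A F := functionField_isFractionRing_of_isAffineOpen X U hU
    haveI : Module.Finite F L := hφ
    haveI : Algebra.IsAlgebraic F L := inferInstance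
    let s : C ≃ₐ[A] integralClosure A L := AlgEquiv.ofRingEquiv (f := NormFieldX.secEquiv (K := L) (φ := φ) hU hη)
      fun a => Subtype.ext (NormFieldX.evalK_app hη a)
    letI : Algebra (integralClosure A L) L := (integralClosure A L).toAlgebra
    letI : Algebra C L := (((integralClosure A L).val).comp s.toAlgHom).toRingHom.toAlgebra
    haveI : IsScalarTower A C L := IsScalarTower.of_algebraMap_eq fun a => by
      show algebraMap A L a = ((s (algebraMap A C a) : integralClosure A L) : L)
      rw [AlgEquiv.commutes]; rfl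
    haveI : IsIntegralClosure C A L :=
      { algebraMap_injective := Subtype.val_injective.comp s.injective
        isIntegral_iff := fun {x} =>
          ⟨fun hx => ⟨s.symm ⟨x, hx⟩, by show ((s (s.symm _) : integralClosure A L) : L) = x; rw [s.apply_symm_apply]⟩,
            fun ⟨y, hy⟩ => hy ▸ (s y).2⟩ }
    haveI := IsIntegralClosure.isLocalization A F L C
    letI : Algebra C (F ⊗[A] C) := Algebra.TensorProduct.rightAlgebra
    haveI : IsLocalization (Algebra.algebraMapSubmonoid C (nonZeroDivisors A)) (F ⊗[A] C) :=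
      IsLocalization.tensorRight (R := A) (S := C) F (nonZeroDivisors A)
    let ε : F ⊗[A] C ≃ₐ[A] L :=
      (IsLocalization.algEquiv (Algebra.algebraMapSubmonoid C (nonZeroDivisors A)) (F ⊗[A] C) L).restrictScalars A
    have hεF : ε.toRingHom.comp (algebraMap F (F ⊗[A] C)) = φ :=
      IsLocalization.ringHom_ext (nonZeroDivisors A) (RingHom.ext fun a => by
        show ε (algebraMap F (F ⊗[A] C) (algebraMap A F a)) = φ (algebraMap A F a)
        rw [← IsScalarTower.algebraMap_apply, ε.commutes]
        rfl)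
    let J : pullback (NormFieldX.ν X L φ) (X.fromSpecStalk (genericPoint X)) ≅ Y₀.left :=
      hp.isoPullback.symm ≪≫ Scheme.Spec.mapIso ε.toRingEquiv.toCommRingCatIso.op.symm ≪≫ e₀.symm
    refine ⟨W, ⟨MorphismProperty.Over.isoMk J ?_⟩⟩
    show J.hom ≫ Y₀.hom = pullback.snd _ _
    rw [← he₀]
    simp only [J, Iso.trans_hom, Iso.symm_hom, Category.assoc, e₀.inv_hom_id_assoc]
    rw [← cancel_epi hp.isoPullback.hom, hp.isoPullback.hom_inv_id_assoc, hp.isoPullback_hom_snd]
    have hs : CommRingCat.ofHom φ ≫ ε.toRingEquiv.toCommRingCatIso.inv =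
        CommRingCat.ofHom (algebraMap F (F ⊗[A] C)) := by
      ext x
      show ε.symm (φ x) = _
      rw [← hεF]
      exact ε.symm_apply_apply _
    show Spec.map ε.toRingEquiv.toCommRingCatIso.inv ≫ Spec.map (CommRingCat.ofHom φ) = _
    rw [← Spec.map_comp, hs]

end Groth.Agent.P1Norm
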